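import Cfsg.Prelude.Def_Perm
import Cfsg.Agent.PrimReduce.Basic
import Cfsg.Agent.AltPPair.SolvShift
import Cfsg.Agent.Huppert3360.Main

/-!
Kantor: a two-homogeneous group that is not doubly transitive is semi-affine, given that groups of
odd order are solvable.
-/

set_option autoImplicit false

namespace Cfsg.Agent.OddTwoHomog

open MulAction
open scoped Pointwise

variable {α : Type*} [Fintype α] [DecidableEq α] {G : Subgroup (Equiv.Perm α)}

theorem pair (h2 : IsPretransitive G (Set.powersetCard α 2)) {a b c d : α} (hab : a ≠ b) (hcd : c ≠ d) :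
    ∃ g : G, (g • a = c ∧ g • b = d) ∨ (g • a = d ∧ g • b = c) := by
  obtain ⟨g, hg⟩ := h2.exists_smul_eq (⟨{a, b}, Finset.card_pair hab⟩ : Set.powersetCard α 2)
    ⟨{c, d}, Finset.card_pair hcd⟩
  have hg' : g • ({a, b} : Finset α) = {c, d} := congrArg Subtype.val hg
  have ha : g • a ∈ ({c, d} : Finset α) := hg' ▸ Finset.smul_mem_smul_finset (by simp)
  have hb : g • b ∈ ({c, d} : Finset α) := hg' ▸ Finset.smul_mem_smul_finset (by simp)
  simp only [Finset.mem_insert, Finset.mem_singleton] at ha hb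
  refine ⟨g, ?_⟩
  rcases ha with ha | ha <;> rcases hb with hb | hb
  · exact absurd (smul_left_cancel g (ha.trans hb.symm)) hab
  · exact Or.inl ⟨ha, hb⟩
  · exact Or.inr ⟨ha, hb⟩
  · exact absurd (smul_left_cancel g (ha.trans hb.symm)) hab

theorem exists_moved {g : G} (hg : g ≠ 1) : ∃ a : α, g • a ≠ a := by
  by_contra! h
  exact hg (Subtype.ext (Equiv.ext h))

theorem pretransitive (hne : G ≠ ⊥) (h2 : IsPretransitive G (Set.powersetCard α 2)) :
    IsPretransitive G α := by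
  obtain ⟨g₀, hg₀, hg₀1⟩ := (Subgroup.bot_or_exists_ne_one G).resolve_left hne
  obtain ⟨c, hc⟩ := exists_moved (G := G) (g := ⟨g₀, hg₀⟩) fun e => hg₀1 (congrArg Subtype.val e)
  refine ⟨fun a b => ?_⟩
  by_cases hab : a = b
  · exact ⟨1, by rw [one_smul, hab]⟩
  obtain ⟨h, ⟨h1, h3⟩ | ⟨h1, h3⟩⟩ := pair h2 (Ne.symm hc) hab
  · exact ⟨h * ⟨g₀, hg₀⟩ * h⁻¹, by rw [mul_smul, mul_smul, ← h1, inv_smul_smul, h3]⟩
  · refine ⟨h * (⟨g₀, hg₀⟩ : G)⁻¹ * h⁻¹, ?_⟩
    rw [mul_smul, mul_smul, ← h3, inv_smul_smul, inv_smul_smul, h1]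

theorem preprimitive (hne : G ≠ ⊥) (h2 : IsPretransitive G (Set.powersetCard α 2)) :
    IsPreprimitive G α := by
  haveI := pretransitive hne h2
  refine { isTrivialBlock_of_isBlock := ?_ }
  intro B hB
  by_contra hnt
  simp only [IsTrivialBlock, not_or, Set.not_subsingleton_iff] at hnt
  obtain ⟨⟨a, ha, b, hb, hab⟩, hne'⟩ := hnt
  obtain ⟨c, hc⟩ := (Set.ne_univ_iff_exists_notMem B).1 hne'
  have hac : a ≠ c := fun e => hc (e ▸ ha)
  obtain ⟨g, hg⟩ := pair h2 hab hac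
  have hmem : a ∈ g • B ∧ c ∈ g • B := by
    rcases hg with ⟨h1, h3⟩ | ⟨h1, h3⟩
    · exact ⟨⟨a, ha, h1⟩, ⟨b, hb, h3⟩⟩
    · exact ⟨⟨b, hb, h3⟩, ⟨a, ha, h1⟩⟩
  rcases isBlock_iff_smul_eq_or_disjoint.1 hB g with h | h
  · exact hc (h ▸ hmem.2)
  · exact Set.disjoint_left.1 h hmem.1 ha

theorem odd_card (h2 : IsPretransitive G (Set.powersetCard α 2)) (hn2 : ¬ IsMultiplyPretransitive G α 2) :
    Odd (Nat.card G) := by
  by_contra hodd
  obtain ⟨t, ht⟩ := exists_prime_orderOf_dvd_card' 2 (Nat.not_odd_iff_even.1 hodd).two_dvd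
  obtain ⟨a, ha⟩ := exists_moved (G := G) (g := t) (by rintro rfl; simp at ht)
  have htt : t • t • a = a := by
    rw [smul_smul, ← sq, ← ht, pow_orderOf_eq_one, one_smul]
  refine hn2 (is_two_pretransitive_iff.2 fun {x y z w} hxy hzw => ?_)
  obtain ⟨g, ⟨h1, h3⟩ | ⟨h1, h3⟩⟩ := pair h2 hxy hzw
  · exact ⟨g, h1, h3⟩
  obtain ⟨h, hh⟩ := pair h2 (Ne.symm ha) hzw
  have hswap : (h * t * h⁻¹) • z = w ∧ (h * t * h⁻¹) • w = z := by
    rcases hh with ⟨h4, h5⟩ | ⟨h4, h5⟩
    · exact ⟨by rw [mul_smul, mul_smul, ← h4, inv_smul_smul, h5],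
        by rw [mul_smul, mul_smul, ← h5, inv_smul_smul, htt, h4]⟩
    · exact ⟨by rw [mul_smul, mul_smul, ← h5, inv_smul_smul, htt, h4],
        by rw [mul_smul, mul_smul, ← h4, inv_smul_smul, h5]⟩
  exact ⟨h * t * h⁻¹ * g, by rw [mul_smul _ g, h1, hswap.2], by rw [mul_smul _ g, h3, hswap.1]⟩

/-- Two orbits `± P` of a solvable linear group of odd order make it semilinear. -/
theorem semi_of_pm {p : ℕ} [hp : Fact p.Prime] (hp2 : p ≠ 2) {V : Type*} [AddCommGroup V]
    [Module (ZMod p) V] [Finite V] [Nontrivial V] {H : Type*} [Group H] [Finite H]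
    [Group.IsSolvable H] (hodd : Odd (Nat.card H)) (ρ : H →* (V ≃ₗ[ZMod p] V))
    (hsplit : ∀ v w : V, v ≠ 0 → w ≠ 0 → ∃ g, ρ g v = w ∨ ρ g v = -w) :
    Nat.card V % 4 = 3 ∧ SolRegular.Semi (fun g v => ρ g v) := by
  classical
  let ν : V ≃ₗ[ZMod p] V := LinearEquiv.neg (ZMod p)
  have hcomm : ∀ (g : H) (x : Subgroup.zpowers ν), Commute (ρ g) ((Subgroup.zpowers ν).subtype x) := by
    intro g ⟨x, hx⟩
    obtain ⟨i, rfl⟩ := Subgroup.mem_zpowers_iff.1 hx
    exact Commute.zpow_right (show Commute (ρ g) ν from LinearEquiv.ext fun v => map_neg (ρ g) v) i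
  let φ := ρ.noncommCoprod (Subgroup.zpowers ν).subtype hcomm
  letI : CommGroup (Subgroup.zpowers ν) := IsCyclic.commGroup
  haveI : Finite (V ≃ₗ[ZMod p] V) :=
    Finite.of_injective (fun g : V ≃ₗ[ZMod p] V => (g : V → V)) DFunLike.coe_injective
  haveI : Group.IsSolvable φ.range := Group.isSolvable_of_surjective φ.rangeRestrict_surjective
  have hφ : ∀ g x, φ (g, x) = ρ g * (x : V ≃ₗ[ZMod p] V) := fun _ _ => rfl
  have htr : ∀ v w : V, v ≠ 0 → w ≠ 0 → ∃ g : φ.range, φ.range.subtype g v = w := by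
    intro v w hv hw
    obtain ⟨g, h | h⟩ := hsplit v w hv hw
    · exact ⟨⟨φ (g, 1), _, rfl⟩, by show φ (g, 1) v = w; rw [hφ, Subgroup.coe_one, mul_one, h]⟩
    · refine ⟨⟨φ (g, ⟨ν, Subgroup.mem_zpowers ν⟩), _, rfl⟩, ?_⟩
      show φ (g, ⟨ν, Subgroup.mem_zpowers ν⟩) v = w
      rw [hφ, LinearEquiv.mul_apply]
      show ρ g (-v) = w
      rw [map_neg, h, neg_neg]
  have hmod : Nat.card V % 4 = 3 := by
    obtain ⟨v₀, hv₀⟩ := exists_ne (0 : V)
    letI : MulAction H V := MulAction.compHom _ ρ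
    set P := orbit H v₀
    have hP : Odd P.ncard := hodd.of_dvd_nat (index_stabilizer H v₀ ▸ Subgroup.index_dvd_card _)
    have hne2 : ∀ v : V, v ≠ 0 → v ≠ -v := fun v hv e => hv (by
      have h2 : ((2 : ℕ) : ZMod p) • v = 0 := by
        rw [Nat.cast_smul_eq_nsmul, two_nsmul]; exact add_eq_zero_iff_eq_neg.2 e
      refine (smul_eq_zero.1 h2).resolve_left fun h0 => hp2 ?_
      exact (Nat.prime_dvd_prime_iff_eq hp.out Nat.prime_two).1 ((ZMod.natCast_eq_zero_iff 2 p).1 h0))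
    have hdisj : Disjoint P (Neg.neg '' P) := Set.disjoint_left.2 fun v ⟨g, hg⟩ ⟨w, ⟨h, hh⟩, hv⟩ => by
      replace hg : ρ g v₀ = v := hg
      replace hh : ρ h v₀ = w := hh
      have hk : ρ (h⁻¹ * g) v₀ = -v₀ := by
        rw [map_mul, LinearEquiv.mul_apply, hg, ← hv, map_neg, ← hh, ← LinearEquiv.mul_apply, ← map_mul,
          inv_mul_cancel, map_one]
        rfl
      have hpow : ∀ k : ℕ, ρ ((h⁻¹ * g) ^ k) v₀ = (-1 : ℤ) ^ k • v₀ := fun k => by
        induction k with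
        | zero => simp
        | succ k ih =>
          rw [pow_succ, map_mul, LinearEquiv.mul_apply, hk, map_neg, ih, pow_succ, mul_neg_one, neg_smul]
      have := hpow (orderOf (h⁻¹ * g))
      rw [pow_orderOf_eq_one, map_one, (hodd.of_dvd_nat (orderOf_dvd_natCard _)).neg_one_pow,
        neg_smul, one_smul] at this
      exact hne2 v₀ hv₀ this
    have hun : P ∪ Neg.neg '' P = {0}ᶜ := by
      ext v
      constructor
      · rintro (⟨g, rfl⟩ | ⟨_, ⟨g, rfl⟩, rfl⟩) e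
        · exact hv₀ ((ρ g).injective (e.trans (map_zero _).symm))
        · exact hv₀ ((ρ g).injective ((neg_eq_zero.1 e).trans (map_zero _).symm))
      · intro hv
        obtain ⟨g, h | h⟩ := hsplit v₀ v hv₀ hv
        · exact Or.inl ⟨g, h⟩
        · exact Or.inr ⟨_, ⟨g, rfl⟩, by show -(ρ g v₀) = v; rw [h, neg_neg]⟩
    have hn := congrArg Set.ncard hun
    rw [Set.ncard_union_eq hdisj, Set.ncard_image_of_injective _ neg_injective, Set.ncard_compl,
      Set.ncard_singleton] at hn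
    obtain ⟨k, hk⟩ := hP
    omega
  refine ⟨hmod, ?_⟩
  rcases Huppert3360.huppert (q := p) (G := φ.range) φ.range.subtype_injective htr with hs | hs
  · obtain ⟨F, i1, i2, e, he⟩ := hs
    refine ⟨F, i1, i2, e, fun g => ?_⟩
    obtain ⟨c, σ, hσ⟩ := he ⟨φ (g, 1), _, rfl⟩
    refine ⟨c, σ, fun v => ?_⟩
    rw [← hσ v]
    show e (ρ g v) = e (φ (g, 1) v)
    rw [hφ, Subgroup.coe_one, mul_one]
  · simp only [Set.mem_insert_iff, Set.mem_singleton_iff] at hs
    omega

/-- Automorphisms of a group of prime exponent as linear maps. -/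
def linHom (p : ℕ) (M : Type*) [CommGroup M] [Module (ZMod p) (Additive M)] :
    MulAut M →* (Additive M ≃ₗ[ZMod p] Additive M) where
  toFun s :=
    { MulEquiv.toAdditive s with map_smul' := ZMod.map_smul (MulEquiv.toAdditive s).toAddMonoidHom }
  map_one' := LinearEquiv.ext fun _ => rfl
  map_mul' _ _ := LinearEquiv.ext fun _ => rfl

theorem linHom_apply {p : ℕ} {M : Type*} [CommGroup M] [Module (ZMod p) (Additive M)] (s : MulAut M)
    (v : Additive M) : (linHom p M s v).toMul = s v.toMul := rfl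

theorem kantor (hne : G ≠ ⊥) (h2 : IsPretransitive G (Set.powersetCard α 2))
    (hn2 : ¬ IsMultiplyPretransitive G α 2) (hFT : Odd (Nat.card G) → Group.IsSolvable G) :
    Odd (Nat.card G) ∧ ∃ (p f : ℕ) (_ : Fact p.Prime), p ≠ 2 ∧ Fintype.card α = p ^ f ∧ p ^ f % 4 = 3 ∧
      ∃ e : α ≃ GaloisField p f,
        (∀ g : G, e.symm.trans (((g : Equiv.Perm α)).trans e) ∈ Cfsg.semiaffineGroup (GaloisField p f)) ∧
        ∀ b : GaloisField p f, ∃ g : G, ∀ x : α, e ((g : Equiv.Perm α) x) = e x + b := by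
  classical
  have hodd := odd_card h2 hn2
  haveI hsol := hFT hodd
  refine ⟨hodd, ?_⟩
  haveI := pretransitive hne h2
  have hprim := preprimitive hne h2
  haveI : Nontrivial G := (Subgroup.nontrivial_iff_ne_bot G).2 hne
  obtain ⟨g₁, hg₁⟩ := exists_ne (1 : G)
  obtain ⟨a, ha⟩ := exists_moved hg₁
  haveI : Nontrivial α := ⟨_, _, ha⟩
  obtain ⟨p, N, hp, hNn, hN, hNab, hNexp⟩ := AltPPair.exists_elementary_normal G hsol
  haveI := hNn
  haveI := Fact.mk hp
  have hp2 : p ≠ 2 := by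
    rintro rfl
    obtain ⟨x, hx, hx1⟩ := (Subgroup.bot_or_exists_ne_one N).resolve_left hN
    have := (orderOf_eq_prime (hNexp x hx) hx1) ▸ orderOf_dvd_natCard x
    exact Nat.not_even_iff_odd.2 hodd (even_iff_two_dvd.2 this)
  haveI : IsMulCommutative N := ⟨⟨fun x y => Subtype.ext (hNab x x.2 y y.2)⟩⟩
  letI : CommGroup N :=
    { (inferInstance : Group N) with mul_comm := fun x y => Subtype.ext (hNab x x.2 y y.2) }
  let eN : N ≃ α := Equiv.ofBijective (fun n => (n : G) • a) <| by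
    have hst := PrimReduce.stabilizer_eq_bot_of_abelian hprim hN a
    refine ⟨fun m k h => ?_, fun x => ?_⟩
    · have h' : m⁻¹ * k ∈ stabilizer N a := by
        show ((m⁻¹ * k : N) : G) • a = a
        have h1 : (m : G) • a = (k : G) • a := h
        rw [Subgroup.coe_mul, mul_smul, Subgroup.coe_inv, ← h1, inv_smul_smul]
      rw [hst, Subgroup.mem_bot] at h'
      exact inv_mul_eq_one.1 h'
    · obtain ⟨n, hn, h⟩ := PrimReduce.transitive_of_normal hprim hN a x
      exact ⟨⟨n, hn⟩, h⟩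
  have heN : ∀ n : N, eN n = (n : G) • a := fun _ => rfl
  have heN1 : eN 1 = a := one_smul G a
  have hexp : ∀ x : Additive N, p • x = 0 := fun x =>
    congrArg Additive.ofMul (show x.toMul ^ p = 1 from Subtype.ext (hNexp _ x.toMul.2))
  letI instM : Module (ZMod p) (Additive N) := AddCommGroup.zmodModule (n := p) (G := Additive N) hexp
  let ρ : stabilizer G a →* (Additive N ≃ₗ[ZMod p] Additive N) :=
    (linHom p N).comp (MulAut.conjNormal.comp (stabilizer G a).subtype)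
  have hρa : ∀ (g : stabilizer G a) (v : Additive N), eN (ρ g v).toMul = (g : G) • eN v.toMul := by
    intro g v
    rw [heN, heN]
    show (((linHom p N (MulAut.conjNormal (g : G)) v).toMul : N) : G) • a = _
    rw [linHom_apply]
    rw [MulAut.conjNormal_apply, mul_smul, mul_smul,
      inv_smul_eq_iff.2 (mem_stabilizer_iff.1 g.2).symm]
  have hρi : Function.Injective ρ := fun g h hgh => Subtype.ext (eq_of_smul_eq_smul fun x : α => by
    obtain ⟨n, rfl⟩ := eN.surjective x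
    rw [← show (Additive.ofMul n).toMul = n from rfl, ← hρa, ← hρa, hgh])
  have hinj : ∀ v w : Additive N, eN v.toMul = eN w.toMul → v = w := fun v w h => eN.injective h
  have hsplit : ∀ v w : Additive N, v ≠ 0 → w ≠ 0 → ∃ g, ρ g v = w ∨ ρ g v = -w := by
    intro v w hv hw
    have hva : ∀ {u : Additive N}, u ≠ 0 → a ≠ eN u.toMul := fun {u} hu e =>
      hu (hinj u 0 (e.symm.trans heN1.symm))
    obtain ⟨g, ⟨h1, h3⟩ | ⟨h1, h3⟩⟩ := pair h2 (hva hv) (hva hw)
    · exact ⟨⟨g, h1⟩, Or.inl (hinj _ _ (by rw [hρa]; exact h3))⟩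
    · have hfix : ((w.toMul : N) : G)⁻¹ * g ∈ stabilizer G a := by
        rw [mem_stabilizer_iff, mul_smul, h1, heN, inv_smul_smul]
      refine ⟨⟨_, hfix⟩, Or.inr (hinj _ _ ?_)⟩
      rw [hρa]
      show (((w.toMul : N) : G)⁻¹ * g) • eN v.toMul = _
      rw [mul_smul, h3, heN, toMul_neg, Subgroup.coe_inv]
  haveI : Nontrivial (Additive N) := ((Subgroup.nontrivial_iff_ne_bot N).2 hN : Nontrivial N)
  obtain ⟨f, hV⟩ : ∃ f, Nat.card (Additive N) = p ^ f := by
    obtain ⟨f, hf⟩ := (IsPGroup.iff_card (G := N) (p := p)).1 fun x =>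
      ⟨1, Subtype.ext (by rw [pow_one, Subgroup.coe_pow]; exact hNexp x x.2)⟩
    exact ⟨f, (Nat.card_congr Additive.toMul).trans hf⟩
  have hcard : Fintype.card α = p ^ f := by
    rw [← Nat.card_eq_fintype_card, ← hV]
    exact Nat.card_congr (eN.symm.trans Additive.ofMul)
  haveI : Group.IsSolvable (stabilizer G a) := inferInstance
  obtain ⟨hmod, hs⟩ := semi_of_pm hp2 (hodd.of_dvd_nat (Subgroup.card_subgroup_dvd_card _)) ρ hsplit
  rw [hV] at hmod
  have hf : f ≠ 0 := by rintro rfl; simp at hmod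
  obtain ⟨F, _, _, e₀, hs⟩ := hs
  haveI := Fintype.ofFinite (GaloisField p f)
  have hFc : Fintype.card F = Fintype.card (GaloisField p f) := by
    rw [← Nat.card_eq_fintype_card, ← Nat.card_eq_fintype_card, GaloisField.card p f hf, ← hV]
    exact (Nat.card_congr e₀.toEquiv).symm
  let ψ := FiniteField.ringEquivOfCardEq hFc
  let Φ : N → GaloisField p f := fun n => ψ (e₀ (Additive.ofMul n))
  have hΦ : ∀ m n : N, Φ (m * n) = Φ n + Φ m := fun m n => by
    simp only [Φ, ofMul_mul, map_add]; exact add_comm _ _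
  let e : α ≃ GaloisField p f :=
    eN.symm.trans (Additive.ofMul.trans (e₀.toEquiv.trans ψ.toEquiv))
  have he : ∀ n : N, e (eN n) = Φ n := fun n => by simp [e, Φ]
  refine ⟨p, f, ⟨hp⟩, hp2, hcard, hmod, e, fun g => ?_, fun b => ?_⟩
  · obtain ⟨m, hm⟩ := eN.surjective (g • a)
    have hfix : ((m : G))⁻¹ * g ∈ stabilizer G a := by
      rw [mem_stabilizer_iff, mul_smul, ← hm, heN, inv_smul_smul]
    obtain ⟨c, σ, hσ⟩ := hs ⟨_, hfix⟩
    replace hσ : ∀ v, e₀ (ρ ⟨_, hfix⟩ v) = c * σ (e₀ v) := hσ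
    have hc : c ≠ 0 := by
      obtain ⟨v₀, hv₀⟩ := exists_ne (0 : Additive N)
      intro hc0
      have := hσ v₀
      rw [hc0, zero_mul, EmbeddingLike.map_eq_zero_iff, EmbeddingLike.map_eq_zero_iff] at this
      exact hv₀ this
    refine ⟨(Units.mk0 (ψ c) (by simpa using hc)), Φ m, ψ.symm.trans (σ.trans ψ), fun x => ?_⟩
    obtain ⟨y, rfl⟩ := e.surjective x
    obtain ⟨n, rfl⟩ := eN.surjective y
    set w := (ρ ⟨_, hfix⟩ (Additive.ofMul n)).toMul
    have hstep : g • eN n = eN (m * w) := by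
      rw [heN (m * w), Subgroup.coe_mul, mul_smul, ← heN w, hρa]
      show _ = (m : G) • ((((m : G))⁻¹ * g) • eN n)
      rw [← mul_smul, mul_inv_cancel_left]
    rw [Equiv.trans_apply, Equiv.trans_apply, Equiv.symm_apply_apply]
    show e (g • eN n) = _
    rw [hstep, he, he, hΦ]
    have : Φ w = ψ c * ψ (σ (e₀ (Additive.ofMul n))) := by
      rw [← map_mul, ← hσ]; rfl
    rw [this]
    simp [Φ]
  · obtain ⟨m, hm⟩ : ∃ m, Φ m = b := ⟨(e₀.symm (ψ.symm b)).toMul, by simp [Φ]⟩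
    refine ⟨m, fun x => ?_⟩
    obtain ⟨n, rfl⟩ := eN.surjective x
    have : (m : G) • eN n = eN (m * n) := by rw [heN (m * n), heN n, Subgroup.coe_mul, mul_smul]
    show e ((m : G) • eN n) = _
    rw [this, he, he, hΦ, hm]

end Cfsg.Agent.OddTwoHomog
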